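import Cfsg.Agent.Lib.JankoFour.Final
import Cfsg.Agent.Lib.JankoFour.Rigid.Facts
import Cfsg.Agent.Lib.JankoFour.Split
import Cfsg.Agent.Lib.JankoFour.Rigid.SplitCert
import Cfsg.Agent.Lib.MathieuOut.Groups
import Cfsg.Agent.Lib.Cores.Basic
import Cfsg.Agent.Lib.J4Cent.Coset
import Cfsg.Agent.Lib.LargeExtra.Extraspecial
import Cfsg.Agent.Lib.Fusion.MathieuCards
import Cfsg.Agent.S5567
import Cfsg.Agent.S5568

/-!
# Orders and classes of involutions in a group of Janko-four type, and transfer of the type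
-/

set_option autoImplicit false
set_option linter.style.haveILetI false
set_option maxHeartbeats 1000000

namespace CfsgLib.J4Unique

open Subgroup

/-- The type passes back along an injective homomorphism whose image contains the centraliser. -/
theorem type_of_injective {G M : Type*} [Group G] [Group M] (θ : M →* G) (hθ : Function.Injective θ) {u : M}
    (hle : centralizer ({θ u} : Set G) ≤ θ.range) (hJ : Cfsg.IsOfJankoFourTypeAt (θ u)) :
    Cfsg.IsOfJankoFourTypeAt u := by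
  obtain ⟨P, h1, h2, h3, h4, ⟨N, hEN, hNH, hHN, hN, ⟨hn, ⟨e⟩⟩, hPN⟩, h6, h7, h8, h9⟩ := hJ
  haveI := hn
  set C := centralizer ({θ u} : Set G) with hCdef
  set D := centralizer ({u} : Set M) with hDdef
  have hD : D = C.comap θ := by
    ext x
    rw [hDdef, hCdef, mem_comap, mem_centralizer_singleton_iff, mem_centralizer_singleton_iff, ← map_mul, ← map_mul,
      hθ.eq_iff]
  have hmap : D.map θ = C := by rw [hD, map_comap_eq_self hle]
  let ι : ↥D ≃* ↥C := (D.equivMapOfInjective θ hθ).trans (MulEquiv.subgroupCongr hmap)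
  have hι : C.subtype.comp ι.toMonoidHom = θ.comp D.subtype := rfl
  have hE : (Cfsg.twoCoreOfCentralizer u).map θ = Cfsg.twoCoreOfCentralizer (θ u) := by
    rw [Cfsg.twoCoreOfCentralizer, Cfsg.twoCoreOfCentralizer, Subgroup.map_map, ← hι, ← Subgroup.map_map,
      CfsgLib.Cores.map_pCore_equiv ι]
  have hEr : Cfsg.twoCoreOfCentralizer (θ u) ≤ θ.range := hE ▸ map_le_range _ _
  have hNr : N ≤ θ.range := hNH.trans hle
  have hPr : P ≤ θ.range := hPN.trans hNr
  have hcard : ∀ {S : Subgroup M}, Nat.card ↥(S.map θ) = Nat.card ↥S := fun {S} => card_map_of_injective hθ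
  have hcent : ∀ (S : Subgroup M), C ⊓ centralizer ((S.map θ : Subgroup G) : Set G) = (D ⊓ centralizer (S : Set M)).map θ := by
    intro S
    ext x
    constructor
    · rintro ⟨hx, hx'⟩
      obtain ⟨y, rfl⟩ := hle hx
      refine ⟨y, ⟨hD ▸ hx, mem_centralizer_iff.2 fun s hs => hθ ?_⟩, rfl⟩
      rw [map_mul, map_mul]
      exact mem_centralizer_iff.1 hx' _ ⟨s, hs, rfl⟩
    · rintro ⟨y, ⟨hy, hy'⟩, rfl⟩
      refine ⟨hmap ▸ ⟨y, hy, rfl⟩, mem_centralizer_iff.2 ?_⟩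
      rintro _ ⟨s, hs, rfl⟩
      rw [← map_mul, ← map_mul, mem_centralizer_iff.1 hy' s hs]
  have hnorm : ∀ (S : Subgroup M), C ⊓ normalizer ((S.map θ : Subgroup G) : Set G) = (D ⊓ normalizer (S : Set M)).map θ := by
    intro S
    have hm : ∀ w, θ w ∈ S.map θ ↔ w ∈ S := fun w => Subgroup.mem_map_iff_mem (f := θ) hθ
    ext x
    constructor
    · rintro ⟨hx, hx'⟩
      obtain ⟨y, rfl⟩ := hle hx
      refine ⟨y, ⟨hD ▸ hx, mem_normalizer_iff.2 fun s => ?_⟩, rfl⟩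
      rw [← hm, ← hm (y * s * y⁻¹), map_mul, map_mul, map_inv]
      exact mem_normalizer_iff.1 hx' (θ s)
    · rintro ⟨y, ⟨hy, hy'⟩, rfl⟩
      refine ⟨hmap ▸ ⟨y, hy, rfl⟩, mem_normalizer_iff.2 fun s => ⟨?_, ?_⟩⟩
      · rintro ⟨a, ha, rfl⟩
        exact ⟨y * a * y⁻¹, (mem_normalizer_iff.1 hy' a).1 ha, by rw [map_mul, map_mul, map_inv]⟩
      · rintro ⟨a, ha, e⟩
        refine ⟨y⁻¹ * a * y, (mem_normalizer_iff.1 hy' _).2 (by simpa [mul_assoc] using ha), ?_⟩
        rw [map_mul, map_mul, map_inv, e]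
        group
  have hPmap : (P.comap θ).map θ = P := map_comap_eq_self hPr
  have hNmap : (N.comap θ).map θ = N := map_comap_eq_self hNr
  refine ⟨P.comap θ, ?_, ?_, ?_, ?_, ⟨N.comap θ, ?_, (comap_mono hNH).trans hD.ge, ?_, ?_, ?_, comap_mono hPN⟩, ?_, ?_, ?_, ?_⟩
  · rw [← orderOf_injective θ hθ u, h1]
  · exact CfsgLib.LargeExtra.isExtraspecial_of_mulEquiv
      ((MulEquiv.subgroupCongr hE.symm).trans ((Cfsg.twoCoreOfCentralizer u).equivMapOfInjective θ hθ).symm) h2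
  · rw [← hcard, hE, h3]
  · intro x hx
    have : θ x ∈ (D ⊓ centralizer (Cfsg.twoCoreOfCentralizer u : Set M)).map θ := ⟨x, hx, rfl⟩
    rw [← hcent, hE] at this
    have h' := h4 this
    rw [← hE] at h'
    exact (Subgroup.mem_map_iff_mem hθ).1 h'
  · intro x hx
    exact hEN (hE ▸ ⟨x, hx, rfl⟩)
  · intro x hx
    have hx' : θ x ∈ normalizer (N : Set G) := hHN (hmap ▸ ⟨x, hx, rfl⟩)
    refine mem_normalizer_iff.2 fun s => ?_
    simp only [mem_comap, map_mul, map_inv]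
    exact mem_normalizer_iff.1 hx' (θ s)
  · rw [← hcard, hNmap, hN, ← hE, hcard]
  · haveI : ((N.comap θ).subgroupOf D).Normal := ⟨fun a ha b => by
      simp only [mem_subgroupOf, mem_comap, coe_mul, InvMemClass.coe_inv, map_mul, map_inv] at ha ⊢
      exact hn.conj_mem ⟨θ (a : M), hNH ha⟩ ha (ι b)⟩
    refine ⟨inferInstance, ⟨(QuotientGroup.congr _ _ ι ?_).trans e⟩⟩
    ext x
    obtain ⟨y, rfl⟩ := ι.surjective x
    constructor
    · rintro ⟨y', hy', e'⟩
      exact (ι.injective e') ▸ hy'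
    · exact fun hy => ⟨y, hy, rfl⟩
  · rw [← hcard, hPmap, h6]
  · refine Subgroup.map_injective hθ ?_
    rw [map_inf _ _ _ hθ, hE, MonoidHom.map_zpowers]
    rw [← h7]
    refine le_antisymm (le_inf inf_le_left ?_) fun x hx => ?_
    · rintro x ⟨-, ⟨y, hy, rfl⟩⟩
      refine mem_centralizer_iff.2 fun p hp => ?_
      obtain ⟨p', rfl⟩ := hPr hp
      rw [← map_mul, ← map_mul, mem_centralizer_iff.1 hy p' hp]
    · obtain ⟨y, rfl⟩ := hEr hx.1
      refine ⟨hx.1, y, mem_centralizer_iff.2 fun p hp => hθ ?_, rfl⟩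
      rw [map_mul, map_mul]
      exact mem_centralizer_iff.1 hx.2 _ hp
  · intro e'
    apply h8
    rw [← hPmap, hnorm, hcent, e']
  · have h := h9
    rw [← hPmap, hcent, ← Subgroup.map_commutator] at h
    intro x hx
    exact (Subgroup.mem_map_iff_mem hθ).1 (h ⟨x, hx, rfl⟩)

/-- The type passes to a conjugate element. -/
theorem type_of_isConj {G : Type*} [Group G] {z z' : G} (h : IsConj z z') (hJ : Cfsg.IsOfJankoFourTypeAt z) :
    Cfsg.IsOfJankoFourTypeAt z' := by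
  obtain ⟨c, rfl⟩ := isConj_iff.1 h
  refine type_of_injective (MulAut.conj c⁻¹).toMonoidHom (MulEquiv.injective _)
    (fun x _ => ⟨c * x * c⁻¹, by simp [mul_assoc]⟩) ?_
  simpa [mul_assoc] using hJ

variable {G : Type*} [Group G] [Finite G] {z : G}

theorem orderOf_z (hJ : Cfsg.IsOfJankoFourTypeAt z) : orderOf z = 2 := by
  obtain ⟨P, h⟩ := hJ; exact h.1

theorem not_comm (hJ : Cfsg.IsOfJankoFourTypeAt z) : ¬ IsMulCommutative G := by
  intro hG
  obtain ⟨P, -, -, -, -, -, -, -, h8, -⟩ := hJ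
  refine h8 (le_antisymm (le_inf inf_le_left fun x _ => mem_centralizer_iff.2 fun p _ => ?_)
    (inf_le_inf le_rfl (centralizer_le_normalizer _)))
  exact hG.is_comm.comm p x

theorem card_autM22_le : Nat.card (MulAut ↥Cfsg.Spor.M22) ≤ 887040 := by
  have h := (Cfsg.Inn ↥Cfsg.Spor.M22).card_mul_index
  have h1 : Nat.card ↥(Cfsg.Inn ↥Cfsg.Spor.M22) ≤ 443520 := by
    rw [← CfsgLib.Fusion.card_M22]
    exact Nat.card_le_card_of_surjective _ (MonoidHom.rangeRestrict_surjective (MulAut.conj (G := ↥Cfsg.Spor.M22)))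
  have h2 : (Cfsg.Inn ↥Cfsg.Spor.M22).index ≤ 2 := by
    rw [Subgroup.index_eq_card]; exact CfsgLib.MathieuOut.out_M22_le
  rw [← h]
  exact Nat.mul_le_mul h1 h2

/-- The centraliser of `z` has at most the order known for the fourth Janko group. -/
theorem card_cent_le (hJ : Cfsg.IsOfJankoFourTypeAt z) : Nat.card ↥(centralizer ({z} : Set G)) ≤ 21799895040 := by
  obtain ⟨P, -, -, h3, -, ⟨N, -, hNH, -, hN, ⟨hn, ⟨e⟩⟩, -⟩, -⟩ := hJ
  haveI := hn
  rw [Subgroup.card_eq_card_quotient_mul_card_subgroup (N.subgroupOf (centralizer ({z} : Set G))),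
    Nat.card_congr e.toEquiv, Nat.card_congr (subgroupOfEquivOfLe hNH).toEquiv, hN, h3]
  exact (Nat.mul_le_mul_right _ card_autM22_le).trans (by norm_num)

/-- The facts about an elementary subgroup of order `2^11`. -/
structure Big (z : G) (B : Subgroup G) (t : G) : Prop where
  cardN : Nat.card ↥(normalizer (B : Set G)) = 501397585920
  mem : t ∈ B
  ord : orderOf t = 2
  not_z : ¬ IsConj z t
  le : centralizer ({t} : Set G) ≤ normalizer (B : Set G)
  cardC : Nat.card ↥(centralizer ({t} : Set G)) = 1816657920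
  has_z : ∃ z' ∈ B, IsConj z z'
  orbit : ∀ v ∈ B, v ≠ 1 → ¬ IsConj z v → ∃ k ∈ normalizer (B : Set G), k * t * k⁻¹ = v
  orbit_t : Set.ncard {w : G | ∃ k ∈ normalizer (B : Set G), k * t * k⁻¹ = w} = 276
  orbit_ncard : ∀ v ∈ B, IsConj z v → Set.ncard {w : G | ∃ k ∈ normalizer (B : Set G), k * v * k⁻¹ = w} = 1771

theorem exists_big [IsSimpleGroup G] (hJ : Cfsg.IsOfJankoFourTypeAt z) {B : Subgroup G}
    (hB : Cfsg.IsElementaryAbelian 2 B) (h11 : Nat.card ↥B = 2 ^ 11) : ∃ t, Big z B t := by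
  classical
  have hG := not_comm hJ
  obtain ⟨z', t, hz', ht, ht1, hzz', hzt, n1, n2, hle⟩ := Cfsg.Agent.S5568.result hG z hJ B hB h11
  obtain ⟨-, K, hK, hKB, hKB', ⟨e⟩⟩ := Cfsg.Agent.S5567.result hG ⟨z, hJ⟩ B hB h11
  have hN : Nat.card ↥(normalizer (B : Set G)) = 501397585920 := by
    rw [← hKB', sup_comm, CfsgLib.JankoFour.card_sup_disjoint hK (inf_comm B K ▸ hKB), h11,
      Nat.card_congr e.toEquiv, CfsgLib.Golay.card_M24]
    norm_num
  set N := normalizer (B : Set G)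
  set O1 := {v : G | ∃ n ∈ N, n * z' * n⁻¹ = v}
  set O2 := {v : G | ∃ n ∈ N, n * t * n⁻¹ = v}
  have hsub : O1 ∪ O2 ⊆ (B : Set G) \ {1} := by
    rintro v (⟨n, hn, rfl⟩ | ⟨n, hn, rfl⟩)
    · refine ⟨(mem_normalizer_iff.1 hn _).1 hz', fun e' => ?_⟩
      have : z' = 1 := conj_eq_one_iff.1 e'
      have h2 := orderOf_z hJ
      obtain ⟨c, hc⟩ := isConj_iff.1 hzz'
      rw [this, conj_eq_one_iff] at hc
      rw [hc, orderOf_one] at h2
      omega
    · exact ⟨(mem_normalizer_iff.1 hn _).1 ht, fun e' => ht1 (conj_eq_one_iff.1 e')⟩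
  have hdisj : Disjoint O1 O2 := Set.disjoint_left.2 fun v ⟨n, _, e1⟩ ⟨n', _, e2⟩ =>
    hzt (hzz'.trans ((isConj_iff.2 ⟨n, e1⟩).trans (isConj_iff.2 ⟨n', e2⟩).symm))
  have hB1 : ((B : Set G) \ {1}).ncard = 2047 := by
    rw [Set.ncard_sdiff_singleton_of_mem B.one_mem, ← Nat.card_coe_set_eq]
    simp only [SetLike.coe_sort_coe, h11]
    norm_num
  have hall : O1 ∪ O2 = (B : Set G) \ {1} := by
    refine Set.eq_of_subset_of_ncard_le hsub ?_ (Set.toFinite _)
    rw [Set.ncard_union_eq hdisj, hB1, n1, n2]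
  have hcases : ∀ v ∈ B, v ≠ 1 → v ∈ O1 ∪ O2 := fun v hv h1 => hall.ge ⟨hv, h1⟩
  refine ⟨t, hN, ht, orderOf_eq_prime (hB.2 t ht) ht1, hzt, hle, ?_, ⟨z', hz', hzz'⟩, fun v hv h1 hzv => ?_,
    n2, fun v hv hzv => ?_⟩
  · let f : ↥N → G := fun n => (n : G) * t * (n : G)⁻¹
    have hfib : ∀ a b : ↥N, f a = f b ↔ a⁻¹ * b ∈ (centralizer ({t} : Set G)).subgroupOf N := by
      intro a b
      rw [mem_subgroupOf, coe_mul, InvMemClass.coe_inv, mem_centralizer_singleton_iff]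
      show (a : G) * t * (a : G)⁻¹ = (b : G) * t * (b : G)⁻¹ ↔ _
      constructor
      · intro e'
        calc (a : G)⁻¹ * b * t = (a : G)⁻¹ * ((b : G) * t * (b : G)⁻¹) * b := by group
          _ = t * ((a : G)⁻¹ * b) := by rw [← e']; group
      · intro e'
        calc (a : G) * t * (a : G)⁻¹ = (a : G) * (t * ((a : G)⁻¹ * b)) * (b : G)⁻¹ := by group
          _ = (b : G) * t * (b : G)⁻¹ := by rw [← e']; group
    have h := CfsgLib.J4Cent.card_eq_of_fibres _ f hfib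
    have hr : Set.range f = O2 := Set.ext fun v =>
      ⟨fun ⟨n, hn⟩ => ⟨n, n.2, hn⟩, fun ⟨n, hn, e'⟩ => ⟨⟨n, hn⟩, e'⟩⟩
    rw [hN, hr, n2, Nat.card_congr (subgroupOfEquivOfLe hle).toEquiv] at h
    omega
  · rcases hcases v hv h1 with ⟨n, -, e1⟩ | h
    · exact absurd (hzz'.trans (isConj_iff.2 ⟨n, e1⟩)) hzv
    · exact h
  · have h1 : v ≠ 1 := by
      rintro rfl
      have h2 := orderOf_z hJ
      rw [isConj_one_left.1 hzv, orderOf_one] at h2
      omega
    rcases hcases v hv h1 with ⟨n, hn, e1⟩ | ⟨n, -, e1⟩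
    · rw [← n1]
      congr 1
      ext w
      constructor
      · rintro ⟨k, hk, rfl⟩
        exact ⟨k * n, mul_mem hk hn, by rw [← e1]; group⟩
      · rintro ⟨k, hk, rfl⟩
        exact ⟨k * n⁻¹, mul_mem hk (inv_mem hn), by rw [← e1]; group⟩
    · exact absurd (hzv.trans (isConj_iff.2 ⟨n, e1⟩).symm) hzt

/-- Every involution is conjugate to `z` or into the elementary subgroup. -/
theorem conj_into [IsSimpleGroup G] (hJ : Cfsg.IsOfJankoFourTypeAt z) {B : Subgroup G}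
    (hB : Cfsg.IsElementaryAbelian 2 B) (h11 : Nat.card ↥B = 2 ^ 11) {b : G} (hb : orderOf b = 2)
    (hnc : ¬ IsConj z b) : ∃ g : G, g * b * g⁻¹ ∈ B := by
  obtain ⟨P, h⟩ := hJ
  obtain ⟨ι, _, q, _, π, n, M, φ, m, -, -⟩ := CfsgLib.JankoFour.exists_model_of_facts h (fun c => c.facts)
  obtain ⟨s, A, Ab, c, -, hconj⟩ := CfsgLib.JankoFour.Thompson.exists_conjugate m
  obtain ⟨k, rfl⟩ := hconj B hB h11
  obtain ⟨K, hK, hKA, hKA'⟩ :=
    CfsgLib.JankoFour.exists_complement c (m.core.exists_split m.facts c.oth.cls.ne c.oth.cls.sing c.oth.cls.card c.oth.hex)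
  obtain ⟨g, hg⟩ := CfsgLib.JankoFour.exists_conj_into c hK hKA hKA' hb hnc
  exact ⟨k * g, g * b * g⁻¹, hg, by simp [mul_assoc]⟩

theorem two_classes [IsSimpleGroup G] (hJ : Cfsg.IsOfJankoFourTypeAt z) {B : Subgroup G}
    (hB : Cfsg.IsElementaryAbelian 2 B) (h11 : Nat.card ↥B = 2 ^ 11) {t : G} (T : Big z B t) {b : G}
    (hb : orderOf b = 2) : IsConj z b ∨ IsConj t b := by
  by_cases hnc : IsConj z b
  · exact .inl hnc
  obtain ⟨g, hg⟩ := conj_into hJ hB h11 hb hnc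
  have hgb : IsConj b (g * b * g⁻¹) := isConj_iff.2 ⟨g, rfl⟩
  obtain ⟨k, -, e⟩ := T.orbit _ hg (fun e => by
    rw [conj_eq_one_iff.1 e, orderOf_one] at hb; omega) fun h => hnc (h.trans hgb.symm)
  exact .inr ((isConj_iff.2 ⟨k, e⟩).trans hgb.symm)

end CfsgLib.J4Unique
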