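import Cfsg.Agent.Lib.J4Unique.Classes
import Cfsg.Agent.Lib.J4Cent.Main
import Cfsg.Agent.Lib.J4Kp.Simple
import Cfsg.Agent.Lib.RankOneSetup.Basic
import Cfsg.Agent.Lib.Invol.Counting

/-!
# A nontrivial homomorphism from the presented fourth Janko group into a group of Janko-four type is bijective
-/

set_option autoImplicit false
set_option maxRecDepth 100000
set_option maxHeartbeats 1000000
set_option linter.style.haveILetI false

namespace CfsgLib.J4Unique

open Subgroup CfsgLib.J4P CfsgLib.J4Cent CfsgLib.J4G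

/-- The elementary subgroup of order `2^11` in the matrix group. -/
noncomputable abbrev bigE : Subgroup G4 := gE.subgroupOf rho.range

theorem gK_le_range : gK ≤ rho.range := rho_range ▸ gK_le

theorem bigE_elementary : Cfsg.IsElementaryAbelian 2 bigE := by
  refine ⟨⟨⟨fun a b => Subtype.ext (Subtype.ext ?_)⟩⟩, fun a ha => Subtype.ext ?_⟩
  · obtain ⟨u, -, hu⟩ := mem_gE.1 (mem_subgroupOf.1 a.2)
    obtain ⟨w, -, hw⟩ := mem_gE.1 (mem_subgroupOf.1 b.2)
    show ((a : G4) : GL2) * ((b : G4) : GL2) = ((b : G4) : GL2) * ((a : G4) : GL2)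
    rw [← hu, ← hw, ← eG_xor, ← eG_xor, Nat.xor_comm]
  · obtain ⟨u, -, hu⟩ := mem_gE.1 (mem_subgroupOf.1 ha)
    show (a : GL2) ^ 2 = 1
    rw [← hu, pow_two, eG_self]

theorem card_bigE : Nat.card bigE = 2 ^ 11 := by
  rw [Nat.card_congr (subgroupOfEquivOfLe (gE_le.trans gK_le_range)).toEquiv, card_gE]
  norm_num

variable {G : Type*} [Group G] [Finite G] [IsSimpleGroup G] {z : G}

omit [Finite G] [IsSimpleGroup G] in
theorem injective_of_ne_one (θ : Cfsg.Spor.J4 →* G) (hθ : θ ≠ 1) : Function.Injective θ := by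
  haveI := CfsgLib.J4Kp.isSimple
  exact (MonoidHom.ker_eq_bot_iff θ).1
    (θ.normal_ker.eq_bot_or_eq_top.resolve_right fun h => hθ (MonoidHom.ker_eq_top_iff.1 h))

/-- The representation of the matrix group. -/
noncomputable def onRange (θ : Cfsg.Spor.J4 →* G) : G4 →* G :=
  θ.comp (MonoidHom.ofInjective CfsgLib.J4Kp.rho_injective).symm.toMonoidHom

theorem map_elementary {M H : Type*} [Group M] [Group H] (φ : M →* H) {S : Subgroup M}
    (hS : Cfsg.IsElementaryAbelian 2 S) : Cfsg.IsElementaryAbelian 2 (S.map φ) := by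
  obtain ⟨hc, h2⟩ := hS
  refine ⟨⟨⟨fun a b => Subtype.ext ?_⟩⟩, fun a ha => ?_⟩
  · obtain ⟨a', ha', ea⟩ := a.2
    obtain ⟨b', hb', eb⟩ := b.2
    show (a : H) * (b : H) = (b : H) * (a : H)
    rw [← ea, ← eb, ← map_mul, ← map_mul]
    exact congrArg φ (congrArg Subtype.val (hc.is_comm.comm ⟨a', ha'⟩ ⟨b', hb'⟩))
  · obtain ⟨a', ha', rfl⟩ := ha
    rw [← map_pow, h2 a' ha', map_one]

omit [Finite G] [IsSimpleGroup G] in
theorem map_bigE (φ : G4 →* G) (hinj : Function.Injective φ) :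
    Cfsg.IsElementaryAbelian 2 (bigE.map φ) ∧ Nat.card ↥(bigE.map φ) = 2 ^ 11 :=
  ⟨map_elementary φ bigE_elementary, by rw [card_map_of_injective hinj, card_bigE]⟩

theorem bijective_of_hom (hJ : Cfsg.IsOfJankoFourTypeAt z) (θ : Cfsg.Spor.J4 →* G) (hθ : θ ≠ 1) :
    Function.Bijective θ := by
  classical
  haveI := CfsgLib.J4Kp.card_J4.1
  haveI := CfsgLib.J4Kp.isSimple
  set e := MonoidHom.ofInjective CfsgLib.J4Kp.rho_injective
  haveI : Finite G4 := Finite.of_equiv _ e.toEquiv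
  haveI : Nontrivial G4 := e.toEquiv.symm.nontrivial
  haveI : IsSimpleGroup G4 := IsSimpleGroup.isSimpleGroup_of_surjective e.toMonoidHom e.surjective
  set φ := onRange θ with hφdef
  have hinj : Function.Injective φ := (injective_of_ne_one θ hθ).comp e.symm.injective
  have hord : ∀ x : G4, orderOf (φ x) = orderOf x := fun x => orderOf_injective φ hinj x
  -- the elementary subgroup and its normaliser
  set B := bigE.map φ
  obtain ⟨hB, hB11⟩ := map_bigE φ hinj
  obtain ⟨t, T⟩ := exists_big hJ hB hB11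
  have hK : (gK.subgroupOf rho.range).map φ ≤ normalizer (B : Set G) := by
    rintro _ ⟨k, hk, rfl⟩
    have hk' : (k : GL2) ∈ normalizer (gE : Set GL2) := gK_normalizes (mem_subgroupOf.1 hk)
    refine le_normalizer_map φ ⟨k, mem_normalizer_iff.2 fun x => ?_, rfl⟩
    simp only [mem_subgroupOf, coe_mul, InvMemClass.coe_inv]
    exact mem_normalizer_iff.1 hk' (x : GL2)
  have hN : normalizer (B : Set G) ≤ φ.range := by
    rw [← Subgroup.eq_of_le_of_card_ge hK (by
      rw [card_map_of_injective hinj, Nat.card_congr (subgroupOfEquivOfLe gK_le_range).toEquiv, card_gK, T.cardN])]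
    exact map_le_range _ _
  -- the centraliser of an involution conjugate to `z`
  set u := φ (el [6]) with hu
  have hu2 : orderOf u = 2 := by
    rw [hu, hord]; exact orderOf_eq_prime (by rw [pow_two]; exact z_sq) z_ne
  have hCu : (centralizer ({el [6]} : Set G4)).map φ ≤ centralizer ({u} : Set G) := by
    rintro _ ⟨x, hx, rfl⟩
    rw [mem_centralizer_singleton_iff, hu, ← map_mul, ← map_mul, mem_centralizer_singleton_iff.1 hx]
  have hconj : ∀ {a b : G}, IsConj a b → Nat.card ↥(centralizer ({a} : Set G)) = Nat.card ↥(centralizer ({b} : Set G)) :=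
    fun h => (CfsgLib.Invol.card_centralizer_of_isConj h).symm
  have hzu : IsConj z u := by
    refine (two_classes hJ hB hB11 T hu2).resolve_right fun h => ?_
    have h1 := Subgroup.card_le_of_le hCu
    rw [card_map_of_injective hinj, card_cent, ← hconj h, T.cardC] at h1
    omega
  have hCuM : centralizer ({u} : Set G) ≤ φ.range := by
    rw [← Subgroup.eq_of_le_of_card_ge hCu (by
      rw [card_map_of_injective hinj, card_cent, ← hconj hzu]; exact card_cent_le hJ)]
    exact map_le_range _ _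
  -- the same in the image
  have hJ4 : Cfsg.IsOfJankoFourTypeAt (el [6]) := type_of_injective φ hinj hCuM (type_of_isConj hzu hJ)
  obtain ⟨t₄, T4⟩ := exists_big hJ4 bigE_elementary card_bigE
  have ht4 : φ t₄ ∈ B := ⟨t₄, T4.mem, rfl⟩
  have ht4ne : φ t₄ ≠ 1 := fun e => by
    have h := T4.ord
    rw [hinj (e.trans (map_one φ).symm), orderOf_one] at h
    omega
  have hnz : ¬ IsConj z (φ t₄) := by
    intro h
    have h1 := T.orbit_ncard _ ht4 h
    have heq : {w : G | ∃ k ∈ normalizer (B : Set G), k * φ t₄ * k⁻¹ = w} =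
        φ '' {w : G4 | ∃ k ∈ normalizer (bigE : Set G4), k * t₄ * k⁻¹ = w} := by
      ext w
      constructor
      · rintro ⟨k, hk, rfl⟩
        obtain ⟨k₄, rfl⟩ := hN hk
        refine ⟨k₄ * t₄ * k₄⁻¹, ⟨k₄, mem_normalizer_iff.2 fun x => ?_, rfl⟩, by rw [map_mul, map_mul, map_inv]⟩
        have := mem_normalizer_iff.1 hk (φ x)
        rw [← map_inv, ← map_mul, ← map_mul, Subgroup.mem_map_iff_mem hinj, Subgroup.mem_map_iff_mem hinj] at this
        exact this
      · rintro ⟨_, ⟨k, hk, rfl⟩, rfl⟩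
        exact ⟨φ k, le_normalizer_map φ ⟨k, hk, rfl⟩, by rw [map_mul, map_mul, map_inv]⟩
    rw [heq, Set.ncard_image_of_injective _ hinj, T4.orbit_t] at h1
    omega
  have cent : ∀ {k a b : G}, k ∈ φ.range → centralizer ({a} : Set G) ≤ φ.range → k * a * k⁻¹ = b →
      centralizer ({b} : Set G) ≤ φ.range := by
    intro k a b hk ha e x hx
    have h1 : k⁻¹ * x * k ∈ φ.range := ha (mem_centralizer_singleton_iff.2 (by
      calc k⁻¹ * x * k * a = k⁻¹ * (x * (k * a * k⁻¹)) * k := by group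
        _ = k⁻¹ * ((k * a * k⁻¹) * x) * k := by rw [e, mem_centralizer_singleton_iff.1 hx]
        _ = a * (k⁻¹ * x * k) := by group))
    have := mul_mem (mul_mem hk h1) (inv_mem hk)
    rwa [show k * (k⁻¹ * x * k) * k⁻¹ = x by group] at this
  have hCt : centralizer ({φ t₄} : Set G) ≤ φ.range := by
    obtain ⟨k, hk, e⟩ := T.orbit _ ht4 ht4ne hnz
    exact cent (hN hk) (T.le.trans hN) e
  have hall : ∀ w : G4, orderOf w = 2 → centralizer ({φ w} : Set G) ≤ φ.range := by
    intro w hw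
    rcases two_classes hJ4 bigE_elementary card_bigE T4 hw with h | h
    · obtain ⟨k, rfl⟩ := isConj_iff.1 h
      exact cent ⟨k, rfl⟩ hCuM (by rw [map_mul, map_mul, map_inv])
    · obtain ⟨k, rfl⟩ := isConj_iff.1 h
      exact cent ⟨k, rfl⟩ hCt (by rw [map_mul, map_mul, map_inv])
  have hsurj : φ.range = ⊤ := by
    refine (Subgroup.eq_top_iff' _).2 fun g => ?_
    set y := g * φ t₄ * g⁻¹ with hy
    have sq : ∀ {x : G}, orderOf x = 2 → x * x = 1 := fun {x} hx => by
      rw [← pow_two, ← hx, pow_orderOf_eq_one]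
    have hy2 : orderOf y = 2 := by rw [hy, ← MulAut.conj_apply, MulEquiv.orderOf_eq, hord, T4.ord]
    have hzy : ¬ IsConj z y := fun h => hnz (h.trans (isConj_iff.2 ⟨g, rfl⟩).symm)
    have heven : Even (orderOf (y * u)) := by
      by_contra ho
      obtain ⟨k, hk⟩ := CfsgLib.RankOneSetup.conj_of_odd_orderOf (sq hy2) (sq hu2) (Nat.not_even_iff_odd.1 ho)
      exact hzy (hzu.trans (isConj_iff.2 ⟨_, hk⟩).symm)
    obtain ⟨w, hw1, hw2, hwy, hwu⟩ :=
      CfsgLib.RankOneSetup.exists_commute_of_even_orderOf (sq hy2) (sq hu2) heven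
    obtain ⟨w₄, rfl⟩ := hCuM (mem_centralizer_singleton_iff.2 hwu)
    obtain ⟨y₄, hy₄⟩ := hall w₄ (by rw [← hord]; exact orderOf_eq_prime (by rw [pow_two]; exact hw2) hw1)
      (mem_centralizer_singleton_iff.2 hwy.symm)
    rcases two_classes hJ4 bigE_elementary card_bigE T4 (b := y₄) (by rw [← hord, hy₄, hy2]) with h | h
    · exact absurd (hy₄ ▸ hzu.trans (φ.map_isConj h)) hzy
    · obtain ⟨k, hk⟩ := isConj_iff.1 h
      have h1 : (φ k)⁻¹ * g ∈ φ.range := hCt (mem_centralizer_singleton_iff.2 (mul_inv_eq_iff_eq_mul.1 (by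
        calc (φ k)⁻¹ * g * φ t₄ * ((φ k)⁻¹ * g)⁻¹ = (φ k)⁻¹ * y * φ k := by rw [hy]; group
          _ = φ t₄ := by rw [← hy₄, ← hk, map_mul, map_mul, map_inv]; group)))
      have := mul_mem (⟨k, rfl⟩ : φ k ∈ φ.range) h1
      rwa [mul_inv_cancel_left] at this
  refine ⟨injective_of_ne_one θ hθ, fun g => ?_⟩
  obtain ⟨x, rfl⟩ := MonoidHom.range_eq_top.1 hsurj g
  exact ⟨_, rfl⟩

/-- The isomorphism. -/
theorem iso_of_hom (hJ : Cfsg.IsOfJankoFourTypeAt z) (θ : Cfsg.Spor.J4 →* G) (hθ : θ ≠ 1) :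
    Cfsg.Spor.IsoJ4 G :=
  ⟨(MulEquiv.ofBijective θ (bijective_of_hom hJ θ hθ)).symm⟩

/-- The order and the two classes of involutions. -/
theorem facts_of_iso (hJ : Cfsg.IsOfJankoFourTypeAt z) (h : Cfsg.Spor.IsoJ4 G) :
    Cfsg.IsJ4 G ∧ ∃ x y : G, orderOf x = 2 ∧ orderOf y = 2 ∧ ¬ IsConj x y ∧
      ∀ w : G, orderOf w = 2 → IsConj w x ∨ IsConj w y := by
  obtain ⟨e⟩ := h
  refine ⟨⟨inferInstance, by rw [Nat.card_congr e.toEquiv, CfsgLib.J4Kp.card_eq]⟩, ?_⟩
  set φ := onRange e.symm.toMonoidHom with hφdef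
  have hinj : Function.Injective φ := e.symm.injective.comp (MulEquiv.injective _)
  set B := bigE.map φ
  obtain ⟨hB, hB11⟩ := map_bigE φ hinj
  obtain ⟨t, T⟩ := exists_big hJ hB hB11
  exact ⟨z, t, orderOf_z hJ, T.ord, T.not_z, fun w hw => (two_classes hJ hB hB11 T hw).imp IsConj.symm IsConj.symm⟩

end CfsgLib.J4Unique
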