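import Cfsg.Agent.Lib.J4Unique.Onto
import Cfsg.Agent.Lib.JFourRec.Rels

/-!
# From the involution of a trio to the isomorphism with the presented group
-/

set_option autoImplicit false
set_option maxRecDepth 100000
set_option maxHeartbeats 1000000

namespace CfsgLib.JFourRec

open Cfsg CfsgLib.Golay CfsgLib.J4P CfsgLib.JankoFour

variable {G : Type*} [Group G] [Finite G] {z : G} {V : Subgroup G} {P : Finset GolayPt → G}
  {κ : Equiv.Perm GolayPt → G} {a : G}

/-- A block repeated. -/
def rep (n : ℕ) (w : List (List ℕ)) : List (List ℕ) := (List.replicate n w).flatten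

/-- The images of a list of lists. -/
noncomputable def img (κ : Equiv.Perm GolayPt → G) (w : List (List ℕ)) : G := ((w.map (permOf ptEquiv)).map κ).prod

omit [Finite G] in
theorem img_append (w w' : List (List ℕ)) : img κ (w ++ w') = img κ w * img κ w' := by
  simp [img]

omit [Finite G] in
theorem img_rep (n : ℕ) (w : List (List ℕ)) : img κ (rep n w) = img κ w ^ n := by
  induction n with
  | zero => simp [img, rep]
  | succ n ih =>
    rw [show rep (n + 1) w = w ++ rep n w by simp [rep, List.replicate_succ], img_append, ih, pow_succ']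

theorem img_one (S : Sys z V P κ a) {w : List (List ℕ)} (hw : w.all m24Test = true)
    (h : eqCheck w [] = true) : img κ w = 1 := by
  simpa [img] using kappa_eq S.setup hw (B := []) rfl h

theorem img_commute (S : Sys z V P κ a) {w : List (List ℕ)} (hw : w.all m24Test = true)
    (h : inTrio (pprod w) = true) : Commute (img κ w) a := by
  have hm : ∀ k ∈ w.map (permOf ptEquiv), k ∈ M24 := by
    intro k hk
    obtain ⟨L, hL, rfl⟩ := List.mem_map.1 hk
    exact mem_M24_of_test (List.all_eq_true.1 hw L hL)
  rw [img, ← (kappa_prod S.setup hm).2,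
    ← (pprod_spec fun L hL => valid_of_test (List.all_eq_true.1 hw L hL)).2]
  exact S.comm _ (mem_trioStab h)

/-- The words of the seven relators of the Mathieu group and of the two commuting with the third generator. -/
theorem word_checks :
    let X := listX; let Y := listY; let I := listYinv
    ([rep 2 [X], rep 3 [Y], rep 23 [X, Y], rep 12 [X, I, X, Y], rep 5 [X, I, X, I, X, Y, X, Y],
      rep 4 ([X, Y] ++ rep 3 [X, Y, X, I]), rep 3 [X, Y, X, Y, X, I] ++ rep 3 [X, Y, X, I, X, I]].all fun w =>
        w.all m24Test && eqCheck w []) = true ∧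
    ([[X], [Y, X, Y] ++ rep 2 [X, I] ++ rep 3 [X, Y]].all fun w => w.all m24Test && inTrio (pprod w)) = true := by
  decide +kernel

/-- The homomorphism from the presented group. -/
theorem exists_hom (S : Sys z V P κ a)
    (hc : (tc κ a k1 * tc κ a k2) * (tc κ a k1 * tc κ a k2) = a * κ eA) :
    ∃ θ : Cfsg.Spor.J4 →* G, θ (PresentedGroup.of Cfsg.Spor.J4.Gen.t) = a := by
  obtain ⟨h, h'⟩ := word_checks
  simp only [List.all_cons, List.all_nil, Bool.and_true, Bool.and_eq_true] at h h'
  obtain ⟨⟨w1, e1⟩, ⟨w2, e2⟩, ⟨w3, e3⟩, ⟨w4, e4⟩, ⟨w5, e5⟩, ⟨w6, e6⟩, w7, e7⟩ := h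
  obtain ⟨⟨u1, t1⟩, u2, t2⟩ := h'
  have r1 := img_one S (by simpa using w1) e1
  have r2 := img_one S (by simpa using w2) e2
  have r3 := img_one S (by simpa using w3) e3
  have r4 := img_one S (by simpa using w4) e4
  have r5 := img_one S (by simpa using w5) e5
  have r6 := img_one S (by simpa using w6) e6
  have r7 := img_one S (by simpa using w7) e7
  have c1 := img_commute S (by simpa using u1) t1
  have c2 := img_commute S (by simpa using u2) t2
  simp only [img_rep, img_append] at r1 r2 r3 r4 r5 r6 r7 c1 c2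
  simp only [img, List.map_cons, List.map_nil, List.prod_cons, List.prod_nil, mul_one, kappa_inv_py S, ← mul_assoc]
    at r1 r2 r3 r4 r5 r6 r7 c1 c2
  have fx : permOf ptEquiv listX = px := rfl
  have fy : permOf ptEquiv listY = py := rfl
  simp only [fx, fy] at r1 r2 r3 r4 r5 r6 r7 c1 c2
  have hx : (κ px)⁻¹ = κ px := kappa_inv_px S
  have ha : a⁻¹ = a := inv_eq_of_mul_eq_one_right S.sq
  let f : Cfsg.Spor.J4.Gen → G := fun g => match g with
    | .x => κ px
    | .y => κ py
    | .t => a
  have hf : ∀ r ∈ Cfsg.Spor.coxRelators Cfsg.Spor.J4.edges ∪ {r | r ∈ Cfsg.Spor.J4.extra}, FreeGroup.lift f r = 1 := by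
    rintro r (hr | hr)
    · simp [Cfsg.Spor.coxRelators, Cfsg.Spor.J4.edges, Cfsg.Spor.coxNodes] at hr
    · simp only [Cfsg.Spor.J4.extra, Set.mem_ofPred_eq, List.mem_cons, List.not_mem_nil, or_false] at hr
      rcases hr with rfl | rfl | rfl | rfl | rfl | rfl | rfl | rfl | rfl | rfl | rfl | rfl <;>
        simp only [map_mul, map_inv, map_pow, FreeGroup.lift_apply_of, f, mul_inv_rev, inv_inv, hx, ha, ← mul_assoc]
      · exact r1
      · exact r2
      · exact r3
      · exact r4
      · exact r5
      · exact r6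
      · exact r7
      · rw [pow_two]; exact S.sq
      · generalize hw : κ py * κ px * κ py * (κ px * (κ py)⁻¹) ^ 2 * (κ px * κ py) ^ 3 = w at c2
        have e : a * w⁻¹ * a * w = 1 := by
          rw [c2.inv_left.symm.eq]
          simp [mul_assoc, S.sq]
        rw [← e, ← hw]
        simp only [mul_inv_rev, hx, ← mul_assoc]
      · have c : Commute (κ px) a := c1
        calc a * κ px * a * κ px = κ px * a * a * κ px := by rw [c.symm.eq]
          _ = κ px * (κ px)⁻¹ := by rw [mul_assoc (κ px), S.sq, mul_one, hx]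
          _ = 1 := mul_inv_cancel _
      · have := rel11 S
        simpa only [mul_inv_rev, inv_inv, hx, ← mul_assoc] using this
      · have := rel12 S hc
        simpa only [mul_inv_rev, inv_inv, hx, ← mul_assoc] using this
  exact ⟨PresentedGroup.toGroup hf, PresentedGroup.toGroup.of hf⟩

/-- The recognition from the involution of a trio. -/
theorem iso_of_sys [IsSimpleGroup G] (hz : Cfsg.IsOfJankoFourTypeAt z) (S : Sys z V P κ a)
    (hc : (tc κ a k1 * tc κ a k2) * (tc κ a k1 * tc κ a k2) = a * κ eA) : Cfsg.Spor.IsoJ4 G := by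
  obtain ⟨θ, hθ⟩ := exists_hom S hc
  refine CfsgLib.J4Unique.iso_of_hom hz θ fun h => S.ne ?_
  rw [← hθ, h, MonoidHom.one_apply]

/-- The order and the two classes of involutions. -/
theorem two_classes_of_iso [IsSimpleGroup G] (hz : Cfsg.IsOfJankoFourTypeAt z) (h : Cfsg.Spor.IsoJ4 G) :
    Cfsg.IsJ4 G ∧ ∃ x y : G, orderOf x = 2 ∧ orderOf y = 2 ∧ ¬ IsConj x y ∧
      ∀ w : G, orderOf w = 2 → IsConj w x ∨ IsConj w y :=
  CfsgLib.J4Unique.facts_of_iso hz h

end CfsgLib.JFourRec
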